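import Mathlib

/-!
# Flatness and relations modulo an ideal; the square-zero Nakayama lemma
-/

set_option autoImplicit false
set_option linter.style.haveILetI false

universe u

open TensorProduct

namespace Groth.Agent.H17.ThickFP

/-- A relation with coefficients in `I A` among generators of a flat module is an `I A`-combination
of relations. -/
theorem mem_map_smul_ker_of_flat {R A F P : Type u} [CommRing R] [CommRing A] [Algebra R A]
    [AddCommGroup F] [Module R F] [Module A F] [IsScalarTower R A F] [Module.Flat R F]
    [AddCommGroup P] [Module R P] [Module A P] [IsScalarTower R A P]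
    (φ : P →ₗ[A] F) (hφ : Function.Surjective φ) (I : Ideal R) (c : P)
    (hc : c ∈ I.map (algebraMap R A) • (⊤ : Submodule A P)) (h0 : φ c = 0) :
    c ∈ I.map (algebraMap R A) • LinearMap.ker φ := by
  let μ : ∀ (N : Type u) [AddCommGroup N] [Module R N], ↥I ⊗[R] N →ₗ[R] N := fun N _ _ =>
    (TensorProduct.lid R N).toLinearMap ∘ₗ LinearMap.rTensor N I.subtype
  have hμ : ∀ (N : Type u) [AddCommGroup N] [Module R N] (i : I) (n : N), μ N (i ⊗ₜ n) = (i : R) • n :=
    fun N _ _ i n => by simp [μ]
  -- `c` comes from `I ⊗ P`
  obtain ⟨ξ, rfl⟩ : c ∈ LinearMap.range (μ P) := by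
    have hle : ∀ x ∈ I.map (algebraMap R A) • (⊤ : Submodule A P), x ∈ LinearMap.range (μ P) := by
      intro x hx
      refine Submodule.smul_induction_on hx (fun a ha p _ => ?_) fun p q hp hq => add_mem hp hq
      rw [Ideal.map] at ha
      induction ha using Submodule.span_induction generalizing p with
      | mem z hz =>
        obtain ⟨i, hi, rfl⟩ := hz
        exact ⟨⟨i, hi⟩ ⊗ₜ p, by rw [hμ, algebraMap_smul]⟩
      | zero => exact ⟨0, by simp⟩
      | add a b _ _ ha hb => rw [add_smul]; exact add_mem (ha p trivial) (hb p trivial)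
      | smul b a _ ha => rw [smul_eq_mul, mul_comm, mul_smul]; exact ha (b • p) trivial
    exact hle c hc
  have hnat : ∀ η : ↥I ⊗[R] P, μ F ((φ.restrictScalars R).lTensor I η) = φ (μ P η) := by
    intro η
    induction η using TensorProduct.induction_on with
    | zero => simp
    | add a b ha hb => simp [map_add, ha, hb]
    | tmul i p => simp [hμ]
  have hinj : Function.Injective (μ F) :=
    (TensorProduct.lid R F).injective.comp (Module.Flat.rTensor_preserves_injective_linearMap _ I.subtype_injective)
  have hξ : (φ.restrictScalars R).lTensor I ξ = 0 := hinj (by rw [hnat, h0, map_zero])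
  have hex := lTensor_exact (↥I) (LinearMap.exact_subtype_ker_map (φ.restrictScalars R)) hφ
  obtain ⟨η, rfl⟩ := (hex ξ).1 hξ
  clear hc h0 hξ
  induction η using TensorProduct.induction_on with
  | zero =>
    rw [map_zero, map_zero]
    exact zero_mem (Ideal.map (algebraMap R A) I • LinearMap.ker φ)
  | add a b ha hb => rw [map_add, map_add]; exact add_mem ha hb
  | tmul i p =>
    rw [LinearMap.lTensor_tmul, hμ, ← algebraMap_smul A (i : R)]
    exact Submodule.smul_mem_smul (Ideal.mem_map_of_mem _ i.2) p.2

/-- Nakayama for a square-zero ideal. -/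
theorem le_of_le_sup_smul {A P : Type u} [CommRing A] [AddCommGroup P] [Module A P] (J : Ideal A)
    (hJ : J * J = ⊥) (L N : Submodule A P) (h : L ≤ N ⊔ J • L) : L ≤ N := by
  have h1 : J • L ≤ N := by
    refine (Submodule.smul_mono le_rfl h).trans ?_
    rw [Submodule.smul_sup, ← Submodule.mul_smul, hJ, Submodule.bot_smul, sup_bot_eq]
    exact Submodule.smul_le.2 fun r _ x hx => N.smul_mem r hx
  exact h.trans (sup_le le_rfl h1)

end Groth.Agent.H17.ThickFP
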