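import Groth.Agent.H17.FPExt.Closure
import Groth.Agent.H16Derived.KFlat.PerfCohLocal
import Groth.Agent.H29Fitt.FreeLocal
import Groth.Agent.H29Omega.ConormalStalk
import Groth.Agent.H06Mod.StalkFinite
import Groth.Agent.H8Props.FinLocFree.Sheaf
import Mathlib

/-!
# Finite presentation from stalkwise presentations by sections
-/

set_option autoImplicit false
set_option linter.style.haveILetI false

universe u

open CategoryTheory CategoryTheory.Limits AlgebraicGeometry TopologicalSpace Opposite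

noncomputable section

namespace Groth.Agent.H17.ThickFP

open Groth.Agent.H06Mod Groth.Agent.H29Fitt Groth.Agent.H29Omega

variable {W : Scheme.{u}}

theorem germ_freeHom_gen (N : W.Modules) {n : ℕ} (s : Fin n → Γ(N, ⊤)) (j : Fin n) (U : W.Opens) (y : W)
    (hy : y ∈ U) :
    N.presheaf.germ U y hy ((freeHom N s).app U (gen W n j U)) = N.presheaf.germ ⊤ y trivial (s j) := by
  rw [freeHom_gen, TopCat.Presheaf.germ_res_apply]

theorem homSec_comp {N N' : W.Modules} (a : Γ(N, ⊤)) (φ : N ⟶ N') :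
    homSec N a ≫ φ = homSec N' (φ.app ⊤ a) := by
  apply Scheme.Modules.hom_ext
  intro U
  ext r
  show φ.app U ((homSec N a).app U r) = (homSec N' (φ.app ⊤ a)).app U r
  rw [homSec_app, homSec_app, Scheme.Modules.Hom.app_smul]
  exact congrArg _ (congr($(φ.mapPresheaf.naturality (homOfLE (le_top : U ≤ ⊤)).op) a))

theorem homSec_zero (N : W.Modules) : homSec N (0 : Γ(N, ⊤)) = 0 := by
  apply Scheme.Modules.hom_ext
  intro U
  ext r
  show (homSec N 0).app U r = 0
  rw [homSec_app, map_zero, smul_zero]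

/-- Germs of the standard sections span the stalks of a free module. -/
theorem exists_germ_gen (n : ℕ) (y : W) (z : (FlatMod.freeMod W n).presheaf.stalk y) :
    ∃ c : Fin n → W.presheaf.stalk y,
      z = ∑ j, c j • (FlatMod.freeMod W n).presheaf.germ ⊤ y trivial (gen W n j ⊤) := by
  obtain ⟨U, hy, t, rfl⟩ := (FlatMod.freeMod W n).presheaf.exists_germ_eq z
  obtain ⟨a, rfl⟩ := exists_eq_sum_gen n U t
  refine ⟨fun j => W.presheaf.germ U y hy (a j), ?_⟩
  rw [map_sum]
  refine Finset.sum_congr rfl fun j _ => ?_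
  rw [H06Mod.germ_smul, ← res_gen n j (le_top : U ≤ ⊤), TopCat.Presheaf.germ_res_apply]

/-- Sections presenting every stalk give a finite presentation. -/
theorem isFP_of_stalk_pres (M : W.Modules) {n m : ℕ} (s : Fin n → Γ(M, ⊤))
    (d : Fin m → Fin n → Γ(W, ⊤)) (hd : ∀ l, ∑ j, d l j • s j = 0)
    (hs : ∀ y, Submodule.span (W.presheaf.stalk y)
      (Set.range fun j => M.presheaf.germ ⊤ y trivial (s j)) = ⊤)
    (hr : ∀ (y : W) (c : Fin n → W.presheaf.stalk y),
      ∑ j, c j • M.presheaf.germ ⊤ y trivial (s j) = 0 →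
        c ∈ Submodule.span (W.presheaf.stalk y) (Set.range fun l => fun j => W.presheaf.germ ⊤ y trivial (d l j))) :
    CohB1.IsFP M := by
  let F₀ := FlatMod.freeMod W n
  let p : F₀ ⟶ M := freeHom M s
  let t : Fin m → Γ(F₀, ⊤) := fun l => ∑ j, d l j • gen W n j ⊤
  let r : FlatMod.freeMod W m ⟶ F₀ := freeHom F₀ t
  have hp : ∀ j, p.app ⊤ (gen W n j ⊤) = s j := fun j => by
    rw [freeHom_gen, show (homOfLE (le_top : (⊤ : W.Opens) ≤ ⊤)).op = 𝟙 _ from rfl, CategoryTheory.Functor.map_id]
    rfl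
  have hpt : ∀ l, p.app ⊤ (t l) = 0 := fun l => by
    rw [map_sum, ← hd l]
    exact Finset.sum_congr rfl fun j _ => by rw [Scheme.Modules.Hom.app_smul, hp]
  have hrp : r ≫ p = 0 := Sigma.hom_ext _ _ fun l => by
    rw [← Category.assoc, comp_zero, show r = Sigma.desc fun l => homSec F₀ (t l) from rfl, Sigma.ι_desc,
      homSec_comp, hpt, homSec_zero]
  have hft0 : CohB1.IsFP F₀ := H8Props.FinLocFree.isFP_of_isFinLocFree _
    (H16Derived.KFlat.Stalk.isFinLocFree_sigma _ fun _ => (H16Derived.KFlat.Stalk.isFinLocFree_iff _).2 fun x =>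
      ⟨⊤, trivial, H16Derived.KFlat.Stalk.isFreeFin_structureModule.pullback _⟩)
  have hft1 : CohB1.IsFP (FlatMod.freeMod W m) := H8Props.FinLocFree.isFP_of_isFinLocFree _
    (H16Derived.KFlat.Stalk.isFinLocFree_sigma _ fun _ => (H16Derived.KFlat.Stalk.isFinLocFree_iff _).2 fun x =>
      ⟨⊤, trivial, H16Derived.KFlat.Stalk.isFreeFin_structureModule.pullback _⟩)
  haveI := hft1
  have hC : CohB1.IsFP (cokernel r) :=
    FPExt.isFP_cokernel r (isQuasicoherent_freeMod W m) inferInstance hft0
  let ψ : cokernel r ⟶ M := cokernel.desc r p hrp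
  have hψ : ∀ (U : W.Opens) x, ψ.app U ((cokernel.π r).app U x) = p.app U x := fun U x => by
    rw [← ConcreteCategory.comp_apply, ← Scheme.Modules.Hom.comp_app, cokernel.π_desc]
  have hpy : ∀ y (c : Fin n → W.presheaf.stalk y),
      stalkLin p y (∑ j, c j • F₀.presheaf.germ ⊤ y trivial (gen W n j ⊤)) =
        ∑ j, c j • M.presheaf.germ ⊤ y trivial (s j) := fun y c => by
    rw [map_sum]
    refine Finset.sum_congr rfl fun j _ => ?_
    rw [LinearMap.map_smul, stalkLin_germ, hp]
  have hψp : ∀ y z, stalkLin ψ y (stalkLin (cokernel.π r) y z) = stalkLin p y z := fun y z => by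
    obtain ⟨U, hy, x, rfl⟩ := F₀.presheaf.exists_germ_eq z
    rw [stalkLin_germ, stalkLin_germ, hψ, stalkLin_germ]
  have hiso : IsIso ψ := isIso_of_bijective_stalkLin ψ fun y => by
    refine ⟨(injective_iff_map_eq_zero _).2 fun z hz => ?_, fun w => ?_⟩
    · obtain ⟨z', rfl⟩ := H06Mod.surjective_stalk_of_epi (cokernel.π r) y z
      change stalkLin ψ y (stalkLin (cokernel.π r) y z') = 0 at hz
      show stalkLin (cokernel.π r) y z' = 0
      obtain ⟨c, rfl⟩ := exists_germ_gen n y z'
      rw [hψp, hpy] at hz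
      have hmem : ∀ e : Fin m → W.presheaf.stalk y,
          stalkLin r y (∑ l, e l • (FlatMod.freeMod W m).presheaf.germ ⊤ y trivial (gen W m l ⊤)) =
            ∑ j, (∑ l, e l * W.presheaf.germ ⊤ y trivial (d l j)) • F₀.presheaf.germ ⊤ y trivial (gen W n j ⊤) := by
        intro e
        rw [map_sum]
        simp only [Finset.sum_smul]
        rw [Finset.sum_comm]
        refine Finset.sum_congr rfl fun l _ => ?_
        rw [LinearMap.map_smul, stalkLin_germ, freeHom_gen, TopCat.Presheaf.germ_res_apply, map_sum, Finset.smul_sum]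
        exact Finset.sum_congr rfl fun j _ => by rw [H06Mod.germ_smul, mul_smul]
      obtain ⟨e, he⟩ := (Submodule.mem_span_range_iff_exists_fun _).1 (hr y c hz)
      have hc : ∀ j, c j = ∑ l, e l * W.presheaf.germ ⊤ y trivial (d l j) := fun j => by
        rw [← he, Finset.sum_apply]
        exact Finset.sum_congr rfl fun l _ => rfl
      simp only [hc]
      rw [← hmem]
      generalize (∑ l, e l • (FlatMod.freeMod W m).presheaf.germ ⊤ y trivial (gen W m l ⊤)) = v
      obtain ⟨U, hy, x, rfl⟩ := (FlatMod.freeMod W m).presheaf.exists_germ_eq v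
      rw [stalkLin_germ, stalkLin_germ]
      have h0 : (cokernel.π r).app U (r.app U x) = 0 := by
        rw [← ConcreteCategory.comp_apply, ← Scheme.Modules.Hom.comp_app, cokernel.condition]
        rfl
      rw [h0, map_zero]
    · obtain ⟨c, hc⟩ := (Submodule.mem_span_range_iff_exists_fun _).1 ((hs y).ge (Submodule.mem_top (x := w)))
      exact ⟨stalkLin (cokernel.π r) y (∑ j, c j • F₀.presheaf.germ ⊤ y trivial (gen W n j ⊤)), by
        rw [hψp, hpy, hc]⟩
  exact (SheafOfModules.isFinitePresentation.{u} (R := W.ringCatSheaf)).prop_of_iso (@asIso _ _ _ _ ψ hiso) hC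

end Groth.Agent.H17.ThickFP
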