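import Groth.Agent.H17.ThickFP.Criterion
import Groth.Agent.H29Fitt.Sheaf
import Groth.Agent.H17.PrinStalk

/-!
# Stalkwise presentations by sections: existence and restriction
-/

set_option autoImplicit false
set_option linter.style.haveILetI false

universe u

open CategoryTheory CategoryTheory.Limits AlgebraicGeometry TopologicalSpace Opposite

noncomputable section

namespace Groth.Agent.H17.ThickFP

open Groth.Agent.H06Mod Groth.Agent.H29Omega Groth.Agent.H17.PrinStalk

variable {X : Scheme.{u}}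

theorem exists_le_finite {ι : Type} [Finite ι] (V : ι → X.Opens) (y : X) (h : ∀ i, y ∈ V i) :
    ∃ W : X.Opens, y ∈ W ∧ ∀ i, W ≤ V i :=
  ⟨⟨⋂ i, (V i : Set X), isOpen_iInter_of_finite fun i => (V i).2⟩, Set.mem_iInter.2 h,
    fun i _ hz => Set.mem_iInter.1 hz i⟩

section Restrict

variable {Z : Scheme.{u}} (j : Z ⟶ X) [IsOpenImmersion j]

/-- The stalk of a restriction. -/
noncomputable def rsE (M : X.Modules) (z : Z) :
    (M.restrict j).presheaf.stalk z ≃+ M.presheaf.stalk (j z) :=
  ((Scheme.Modules.restrictStalkNatIso j z).app M).addCommGroupIsoToAddEquiv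

theorem rsE_germ (M : X.Modules) (z : Z) (W : Z.Opens) (hz : z ∈ W) (m : Γ(M.restrict j, W)) :
    rsE j M z ((M.restrict j).presheaf.germ W z hz m) =
      M.presheaf.germ (j ''ᵁ W) (j z) ⟨z, hz, rfl⟩ m :=
  congr($(Scheme.Modules.germ_restrictStalkNatIso_hom_app j z M (U := W) hz) m)

theorem rsE_smul (M : X.Modules) (z : Z) (r : X.presheaf.stalk (j z))
    (v : (M.restrict j).presheaf.stalk z) :
    rsE j M z ((j.stalkMap z).hom r • v) = r • rsE j M z v := by
  let σ : X.presheaf.stalk (j z) ≃+* Z.presheaf.stalk z :=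
    RingEquiv.ofBijective (j.stalkMap z).hom (ConcreteCategory.bijective_of_isIso (j.stalkMap z))
  obtain ⟨a, rfl⟩ : ∃ a, σ.symm a = r := ⟨σ r, σ.symm_apply_apply r⟩
  rw [show (j.stalkMap z).hom (σ.symm a) = a from σ.apply_symm_apply a]
  obtain ⟨W, hzW, r, m, rfl, rfl⟩ := exists_germ_pair (M.restrict j) z a v
  rw [← germ_smul, rsE_germ, rsE_germ]
  let mm : Γ(M, j ''ᵁ W) := m
  rw [show (r • m : Γ(M.restrict j, W)) = ((j.appIso W).inv r • mm : Γ(M, j ''ᵁ W)) from rfl, germ_smul]
  congr 1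
  refine σ.injective ?_
  rw [σ.apply_symm_apply]
  show j.stalkMap z (X.presheaf.germ (j ''ᵁ W) (j z) ⟨z, hzW, rfl⟩ ((j.appIso W).inv r)) = _
  rw [Scheme.Hom.germ_stalkMap_apply]
  have h1 := congr($(j.appIso_inv_app W) r)
  rw [ConcreteCategory.comp_apply] at h1
  rw [h1, TopCat.Presheaf.germ_res_apply]

end Restrict

/-- Sections over `V` presenting every stalk over `V`: the restriction to `V` is of finite presentation. -/
theorem isFP_restrict (M : X.Modules) {V : X.Opens} {n m : ℕ} (s : Fin n → Γ(M, V))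
    (d : Fin m → Fin n → Γ(X, V)) (hd : ∀ l, ∑ j, d l j • s j = 0)
    (hs : ∀ y (hy : y ∈ V), Submodule.span (X.presheaf.stalk y)
      (Set.range fun j => M.presheaf.germ V y hy (s j)) = ⊤)
    (hr : ∀ y (hy : y ∈ V) (c : Fin n → X.presheaf.stalk y),
      ∑ j, c j • M.presheaf.germ V y hy (s j) = 0 →
        c ∈ Submodule.span (X.presheaf.stalk y) (Set.range fun l => fun j => X.presheaf.germ V y hy (d l j))) :
    CohB1.IsFP ((Scheme.Modules.restrictFunctor V.ι).obj M) := by
  have hle : V.ι ''ᵁ ⊤ ≤ V := V.ι_image_le _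
  let s' : Fin n → Γ(M.restrict V.ι, ⊤) := fun j => M.presheaf.map (homOfLE hle).op (s j)
  let d' : Fin m → Fin n → Γ((V : Scheme.{u}), ⊤) := fun l j =>
    (V.ι.appIso ⊤).hom (X.presheaf.map (homOfLE hle).op (d l j))
  have hgerm : ∀ (z : (V : Scheme.{u})) l j, V.ι.stalkMap z (X.presheaf.germ V (V.ι z) z.2 (d l j)) =
      (V : Scheme.{u}).presheaf.germ ⊤ z trivial (d' l j) := fun z l j => by
    rw [← X.presheaf.germ_res_apply (homOfLE hle) (V.ι z) ⟨z, trivial, rfl⟩ (d l j),
      Scheme.Hom.germ_stalkMap_apply]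
    have h1 := congr($(V.ι.appIso_inv_app ⊤) (d' l j))
    rw [ConcreteCategory.comp_apply, show (V.ι.appIso ⊤).inv (d' l j) = X.presheaf.map (homOfLE hle).op (d l j) from
      congr($((V.ι.appIso ⊤).hom_inv_id) _)] at h1
    rw [h1, TopCat.Presheaf.germ_res_apply]
  have hgs : ∀ (z : (V : Scheme.{u})) j, rsE V.ι M z ((M.restrict V.ι).presheaf.germ ⊤ z trivial (s' j)) =
      M.presheaf.germ V (V.ι z) z.2 (s j) := fun z j => by
    rw [rsE_germ]
    exact TopCat.Presheaf.germ_res_apply _ _ _ _ _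
  have hsurj : ∀ z : (V : Scheme.{u}), Function.Surjective (V.ι.stalkMap z).hom := fun z =>
    (ConcreteCategory.bijective_of_isIso (V.ι.stalkMap z)).2
  refine isFP_of_stalk_pres (M.restrict V.ι) s' d' (fun l => ?_) (fun z => ?_) fun z c hc => ?_
  · let Φ : Γ(M, V) →+ Γ(M.restrict V.ι, ⊤) := (M.presheaf.map (homOfLE hle).op).hom
    have h1 : ∀ j, (d' l j • s' j : Γ(M.restrict V.ι, ⊤)) = Φ (d l j • s j) := fun j => by
      let mm : Γ(M, V.ι ''ᵁ ⊤) := s' j
      rw [show (d' l j • s' j : Γ(M.restrict V.ι, ⊤)) = ((V.ι.appIso ⊤).inv (d' l j) • mm : Γ(M, V.ι ''ᵁ ⊤)) from rfl,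
        show (V.ι.appIso ⊤).inv (d' l j) = X.presheaf.map (homOfLE hle).op (d l j) from
          congr($((V.ι.appIso ⊤).hom_inv_id) _)]
      exact (Scheme.Modules.map_smul M _ _ _).symm
    refine (Finset.sum_congr rfl fun j _ => h1 j).trans ?_
    rw [← map_sum Φ, hd, map_zero]
  · refine Submodule.eq_top_iff'.2 fun w => ?_
    obtain ⟨c, hc⟩ := (Submodule.mem_span_range_iff_exists_fun _).1
      ((hs (V.ι z) z.2).ge (Submodule.mem_top (x := rsE V.ι M z w)))
    refine (Submodule.mem_span_range_iff_exists_fun _).2 ⟨fun j => (V.ι.stalkMap z).hom (c j), ?_⟩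
    refine (rsE V.ι M z).injective ?_
    rw [map_sum, ← hc]
    exact Finset.sum_congr rfl fun j _ => by rw [rsE_smul, hgs]
  · choose b hb using fun j => hsurj z (c j)
    obtain rfl := funext hb
    have h0 : ∑ j, b j • M.presheaf.germ V (V.ι z) z.2 (s j) = 0 := by
      have := congrArg (rsE V.ι M z) hc
      rw [map_zero, map_sum] at this
      rw [← this]
      exact Finset.sum_congr rfl fun j _ => by rw [rsE_smul, hgs]
    obtain ⟨e, he⟩ := (Submodule.mem_span_range_iff_exists_fun _).1 (hr (V.ι z) z.2 b h0)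
    refine (Submodule.mem_span_range_iff_exists_fun _).2 ⟨fun l => (V.ι.stalkMap z).hom (e l), funext fun j => ?_⟩
    rw [← he, Finset.sum_apply, Finset.sum_apply, map_sum]
    refine Finset.sum_congr rfl fun l _ => ?_
    simp only [Pi.smul_apply, smul_eq_mul, map_mul]
    exact congrArg _ (hgerm z l j).symm

/-- A module of finite presentation has stalkwise presentations by sections over affine opens. -/
theorem exists_pres (G : X.Modules) (hG : CohB1.IsFP G) {U : X.Opens} (hU : IsAffineOpen U) :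
    ∃ (n m : ℕ) (g : Fin n → Γ(G, U)) (c : Fin m → Fin n → Γ(X, U)),
      (∀ l, ∑ j, c l j • g j = 0) ∧
      (∀ x (hx : x ∈ U), Submodule.span (X.presheaf.stalk x)
        (Set.range fun j => G.presheaf.germ U x hx (g j)) = ⊤) ∧
      ∀ x (hx : x ∈ U) (a : Fin n → X.presheaf.stalk x),
        ∑ j, a j • G.presheaf.germ U x hx (g j) = 0 →
          a ∈ Submodule.span (X.presheaf.stalk x) (Set.range fun l => fun j => X.presheaf.germ U x hx (c l j)) := by
  haveI : Module.FinitePresentation Γ(X, U) Γ(G, U) := FPExt.fpAt_of_isFP hG hU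
  have hq := H29Fitt.isQCoh_of_isFP G hG
  obtain ⟨n, g, hg⟩ := Module.Finite.exists_fin (R := Γ(X, U)) (M := Γ(G, U))
  let L : (Fin n → Γ(X, U)) →ₗ[Γ(X, U)] Γ(G, U) := Fintype.linearCombination Γ(X, U) g
  have hLs : Function.Surjective L := by
    rw [← LinearMap.range_eq_top, Fintype.range_linearCombination, hg]
  obtain ⟨m, c, hc⟩ := Submodule.fg_iff_exists_fin_generating_family.1 (Module.FinitePresentation.fg_ker L hLs)
  have hL : ∀ a, L a = ∑ j, a j • g j := fun a => Fintype.linearCombination_apply _ _ a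
  have hc0 : ∀ l, ∑ j, c l j • g j = 0 := fun l => by
    rw [← hL]
    exact LinearMap.mem_ker.1 (hc ▸ Submodule.subset_span ⟨l, rfl⟩)
  refine ⟨n, m, g, c, hc0, fun x hx => ?_, fun x hx a ha => ?_⟩
  all_goals
    letI := TopCat.Presheaf.algebra_section_stalk X.presheaf (⟨x, hx⟩ : U)
    letI := Module.compHom (G.presheaf.stalk x) (algebraMap Γ(X, U) (X.presheaf.stalk x))
    haveI := hU.isLocalization_stalk (⟨x, hx⟩ : U)
    have hloc := H29Fitt.isLocalizedModule_germLin G hq hU (⟨x, hx⟩ : U)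
  · refine Submodule.eq_top_iff'.2 fun w => ?_
    obtain ⟨⟨t, s⟩, hts⟩ := hloc.surj w
    have hu := IsLocalization.map_units (X.presheaf.stalk x) s
    refine (Submodule.smul_mem_iff_of_isUnit _ hu).1 ?_
    have h2 : algebraMap Γ(X, U) (X.presheaf.stalk x) (s : Γ(X, U)) • w = G.presheaf.germ U x hx t := hts
    rw [h2]
    obtain ⟨e, he⟩ := hLs t
    rw [← he, hL, map_sum]
    refine Submodule.sum_mem _ fun j _ => ?_
    rw [H06Mod.germ_smul]
    exact Submodule.smul_mem _ _ (Submodule.subset_span ⟨j, rfl⟩)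
  · obtain ⟨t, ht⟩ := IsLocalization.exist_integer_multiples_of_finite
      (hU.primeIdealOf ⟨x, hx⟩).asIdeal.primeCompl a
    choose b hb using ht
    have hb' : ∀ j, X.presheaf.germ U x hx (b j) = X.presheaf.germ U x hx (t : Γ(X, U)) * a j := fun j =>
      (hb j).trans (Algebra.smul_def _ _)
    have h0 : G.presheaf.germ U x hx (L b) = 0 := by
      rw [hL, map_sum, ← smul_zero (X.presheaf.germ U x hx (t : Γ(X, U))), ← ha, Finset.smul_sum]
      exact Finset.sum_congr rfl fun j _ => by rw [H06Mod.germ_smul, hb', mul_smul]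
    obtain ⟨u, hu0⟩ := hloc.exists_of_eq (x₁ := L b) (x₂ := 0) (h0.trans (map_zero _).symm)
    have hub : (u : Γ(X, U)) • b ∈ LinearMap.ker L := by
      rw [LinearMap.mem_ker, map_smul]
      exact hu0.trans (smul_zero _)
    rw [← hc] at hub
    obtain ⟨e, he⟩ := (Submodule.mem_span_range_iff_exists_fun _).1 hub
    have hu := (IsLocalization.map_units (X.presheaf.stalk x) u).mul
      (IsLocalization.map_units (X.presheaf.stalk x) t)
    refine (Submodule.smul_mem_iff_of_isUnit _ hu).1 ?_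
    refine (Submodule.mem_span_range_iff_exists_fun _).2 ⟨fun l => X.presheaf.germ U x hx (e l), funext fun j => ?_⟩
    have hj := congrArg (X.presheaf.germ U x hx) (congrFun he j)
    simp only [Finset.sum_apply, Pi.smul_apply, smul_eq_mul, map_sum, map_mul] at hj ⊢
    rw [hj, hb', mul_assoc]
    rfl

end Groth.Agent.H17.ThickFP
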