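import Groth.Agent.H17.ThickFP.Algebra
import Groth.Agent.H17.ThickFP.Local
import Groth.Agent.H17.GrBase.FlatGr
import Groth.Prelude.Def_MoreMor
import Groth.Prelude.Def_FlatMod2
import Mathlib

/-!
# Finite presentation across a first order thickening of the base
-/

set_option autoImplicit false
set_option linter.style.haveILetI false
set_option maxHeartbeats 1000000

universe u

open CategoryTheory CategoryTheory.Limits AlgebraicGeometry TopologicalSpace Opposite TensorProduct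

noncomputable section

namespace Groth.Agent.H17.ThickFP

open Groth.Agent.H06Mod Groth.Agent.H29Omega Groth.Agent.H17.PrinStalk Groth.Agent.H17.GrBase

attribute [local instance] Groth.Agent.H06Mod.stalkAlgebra

variable {X X' T T' : Scheme.{u}} (i : X ⟶ X') (q : X ⟶ T) (q' : X' ⟶ T') (t : T ⟶ T')

/-- A closed immersion is surjective on stalks. -/
theorem surjective_stalkTo [IsClosedImmersion i] (x : X) {y : X'} (h : i x = y) :
    Function.Surjective (stalkTo i x h) := by
  subst h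
  intro b
  obtain ⟨a, ha⟩ := i.stalkMap_surjective x b
  exact ⟨a, by simp [stalkTo, TopCat.Presheaf.stalkSpecializes_refl]; exact ha⟩

/-- The kernel on stalks of the thickening is square zero and comes from the base. -/
theorem ker_stalkTo [IsClosedImmersion t] [IsClosedImmersion i] (hsq : IsPullback i q q' t)
    (ht : t.ker * t.ker = ⊥) (x : X) {y : X'} (h : i x = y) :
    ∃ I : Ideal (T'.presheaf.stalk (q' y)),
      RingHom.ker (stalkTo i x h) = I.map (q'.stalkMap y).hom ∧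
      RingHom.ker (stalkTo i x h) * RingHom.ker (stalkTo i x h) = ⊥ := by
  subst h
  let I : Ideal (T'.presheaf.stalk (q' (i x))) := LinearMap.range (idealStalk t.ker (q' (i x)))
  have hker : i.ker = t.ker.comap q' := ker_eq_comap (f := t) (v := q') (u := q) (f' := i) hsq.flip
  have hI : RingHom.ker (stalkTo i x rfl) = I.map (q'.stalkMap (i x)).hom := by
    rw [← range_idealStalk_ker_stalkTo i x rfl, ← pow_one i.ker,
      range_idealStalk_comap q' (isComap_pow q' hker 1) (i x) rfl, pow_one]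
    refine congrArg (fun φ => Ideal.map φ I) (RingHom.ext fun a => ?_)
    simp [stalkTo, TopCat.Presheaf.stalkSpecializes_refl]
  refine ⟨I, hI, ?_⟩
  have hII : I * I = ⊥ := by
    obtain ⟨_, ⟨U, hU : IsAffineOpen U, rfl⟩, hxU, -⟩ :=
      T'.isBasis_affineOpens.exists_subset_of_mem_open (show q' (i x) ∈ (⊤ : T'.Opens) from trivial) (⊤ : T'.Opens).isOpen
    have h2 : t.ker ^ 2 = ⊥ := by rw [pow_two, ht]
    rw [← pow_two, ← range_idealStalk_pow, h2, range_idealStalk _ _ ⟨U, hU⟩ hxU]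
    exact (congrArg (Ideal.map _) (Scheme.IdealSheafData.ideal_bot (X := T') ▸ rfl)).trans Ideal.map_bot
  rw [hI, ← Ideal.map_mul, hII, Ideal.map_bot]

theorem surjective_pullTo [IsClosedImmersion i] (M : X'.Modules) (x : X) {y : X'} (h : i x = y) :
    Function.Surjective (pullTo i M x h) := by
  intro w
  have hw : w ∈ Submodule.span (X.presheaf.stalk x) (Set.range (pullTo i M x h)) := by
    rw [span_pullTo]; trivial
  induction hw using Submodule.span_induction with
  | mem w hw => exact hw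
  | zero => exact ⟨0, map_zero _⟩
  | add a b _ _ ha hb =>
    obtain ⟨a, rfl⟩ := ha; obtain ⟨b, rfl⟩ := hb
    exact ⟨a + b, map_add _ _ _⟩
  | smul r a _ ha =>
    obtain ⟨a, rfl⟩ := ha
    obtain ⟨r, rfl⟩ := surjective_stalkTo i x h r
    exact ⟨r • a, pullTo_smul _ _ _ _ _ _⟩

theorem pullTo_eq_zero [IsClosedImmersion i] (M : X'.Modules) (x : X) {y : X'} (h : i x = y)
    (m : M.presheaf.stalk y) (hm : pullTo i M x h m = 0) :
    m ∈ RingHom.ker (stalkTo i x h) • (⊤ : Submodule (X'.presheaf.stalk y) (M.presheaf.stalk y)) := by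
  let J := RingHom.ker (stalkTo i x h)
  let e : (X'.presheaf.stalk y ⧸ J) ≃+* X.presheaf.stalk x :=
    RingHom.quotientKerEquivOfSurjective (surjective_stalkTo i x h)
  obtain ⟨L, hL, hLb⟩ := exists_tensor_bijective i M x h (X'.presheaf.stalk y ⧸ J) e.toRingHom e.bijective
    fun b => rfl
  have h0 : (1 : X'.presheaf.stalk y ⧸ J) ⊗ₜ[X'.presheaf.stalk y] m = 0 :=
    hLb.1 (by rw [hL, hm, smul_zero, map_zero])
  have h1 := congrArg (TensorProduct.quotTensorEquivQuotSMul (M.presheaf.stalk y) J) h0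
  rw [map_zero, show (1 : X'.presheaf.stalk y ⧸ J) = Ideal.Quotient.mk J 1 from rfl,
    TensorProduct.quotTensorEquivQuotSMul_mk_tmul, one_smul, Submodule.Quotient.mk_eq_zero] at h1
  exact h1

theorem mem_smul_top_pi {A : Type*} [CommRing A] {n : ℕ} (J : Ideal A) (c : Fin n → A) (h : ∀ j, c j ∈ J) :
    c ∈ J • (⊤ : Submodule A (Fin n → A)) := by
  rw [pi_eq_sum_univ c]
  exact Submodule.sum_mem _ fun j _ => Submodule.smul_mem_smul (h j) trivial

/-- A module flat over the base with finitely presented restriction to the thickened closed subscheme is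
finitely presented. -/
theorem isFP_of_isFP_pullback (hsq : IsPullback i q q' t) (ht : MoreMor.IsFirstOrderThickening t)
    (M : X'.Modules) (hflat : FlatMod.IsFlatOver q' M)
    (hG : CohB1.IsFP ((Scheme.Modules.pullback i).obj M)) : CohB1.IsFP M := by
  haveI : IsClosedImmersion t := ht.1.1
  haveI : Surjective t := ht.1.2
  haveI : IsClosedImmersion i := MorphismProperty.of_isPullback hsq.flip inferInstance
  haveI : Surjective i := MorphismProperty.of_isPullback hsq.flip inferInstance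
  let G := (Scheme.Modules.pullback i).obj M
  have hflat' : ∀ (x : X) {y : X'} (h : i x = y) {n : ℕ} (σ : Fin n → M.presheaf.stalk y),
      Submodule.span (X'.presheaf.stalk y) (Set.range σ) = ⊤ → ∀ c : Fin n → X'.presheaf.stalk y,
      (∀ j, c j ∈ RingHom.ker (stalkTo i x h)) → ∑ j, c j • σ j = 0 →
      c ∈ RingHom.ker (stalkTo i x h) •
        LinearMap.ker (Fintype.linearCombination (X'.presheaf.stalk y) σ) := by
    intro x y h n σ hσ c hc h0
    obtain ⟨I, hI, -⟩ := ker_stalkTo i q q' t hsq ht.2 x h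
    letI := FlatMod.moduleStalkOver q' M y
    haveI : Module.Flat (T'.presheaf.stalk (q'.base y)) (M.presheaf.stalk y) := hflat y
    haveI : IsScalarTower (T'.presheaf.stalk (q'.base y)) (X'.presheaf.stalk y) (M.presheaf.stalk y) :=
      .of_algebraMap_smul fun _ _ => rfl
    rw [hI]
    refine mem_map_smul_ker_of_flat (Fintype.linearCombination (X'.presheaf.stalk y) σ) ?_ I c ?_ ?_
    · rw [← LinearMap.range_eq_top, Fintype.range_linearCombination, hσ]
    · have := mem_smul_top_pi _ c hc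
      rwa [hI] at this
    · rw [Fintype.linearCombination_apply, h0]
  refine H16Derived.KFlat.Stalk.isFP_of_local fun y₀ => ?_
  obtain ⟨x₀, hx₀⟩ := Surjective.surj (f := i) y₀
  subst hx₀
  obtain ⟨_, ⟨U, hU : IsAffineOpen U, rfl⟩, hxU, -⟩ :=
    X.isBasis_affineOpens.exists_subset_of_mem_open (show x₀ ∈ (⊤ : X.Opens) from trivial) (⊤ : X.Opens).isOpen
  obtain ⟨n, m, g, c, hc0, hgs, hgr⟩ := exists_pres G hG hU
  -- lifts of the generators
  choose σ₀ hσ₀ using fun j => surjective_pullTo i M x₀ rfl (G.presheaf.germ U x₀ hxU (g j))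
  choose Vj hVj s₁ hs₁ using fun j => M.presheaf.exists_germ_eq (σ₀ j)
  have hagree : ∀ j, ∃ W : X.Opens, x₀ ∈ W ∧ W ≤ U ∧ ∀ x (hx : i x ∈ Vj j) (hxU' : x ∈ U), x ∈ W →
      pullTo i M x rfl (M.presheaf.germ (Vj j) (i x) hx (s₁ j)) = G.presheaf.germ U x hxU' (g j) := by
    intro j
    have h := hσ₀ j
    rw [← hs₁ j, pullTo_germ] at h
    obtain ⟨W, hW, e₁, e₂, he⟩ := G.presheaf.germ_eq x₀ (show x₀ ∈ i ⁻¹ᵁ Vj j from hVj j) hxU _ _ h
    refine ⟨W, hW, e₂.le, fun x hx hxU' hxW => ?_⟩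
    rw [pullTo_germ]
    have := congrArg (G.presheaf.germ W x hxW) he
    rwa [TopCat.Presheaf.germ_res_apply, TopCat.Presheaf.germ_res_apply] at this
  choose Wj hWj hWjU hWeq using hagree
  obtain ⟨V₁, hy₁, hV₁⟩ := exists_le_finite Vj (i x₀) hVj
  obtain ⟨W₁, hx₁, hW₁⟩ := exists_le_finite Wj x₀ hWj
  let s : Fin n → Γ(M, V₁) := fun j => M.presheaf.map (homOfLE (hV₁ j)).op (s₁ j)
  have hpull : ∀ x (hx : i x ∈ V₁) (hxU' : x ∈ U), x ∈ W₁ → ∀ j,
      pullTo i M x rfl (M.presheaf.germ V₁ (i x) hx (s j)) = G.presheaf.germ U x hxU' (g j) := by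
    intro x hx hxU' hxW j
    rw [TopCat.Presheaf.germ_res_apply]
    exact hWeq j x (hV₁ j hx) hxU' (hW₁ j hxW)
  -- generation
  have hgen : ∀ x (hx : i x ∈ V₁) (hxU' : x ∈ U), x ∈ W₁ →
      Submodule.span (X'.presheaf.stalk (i x)) (Set.range fun j => M.presheaf.germ V₁ (i x) hx (s j)) = ⊤ := by
    intro x hx hxU' hxW
    obtain ⟨I, hI, hJ⟩ := ker_stalkTo i q q' t hsq ht.2 x (rfl : i x = i x)
    refine top_le_iff.1 (le_of_le_sup_smul _ hJ ⊤ _ fun w _ => ?_)
    obtain ⟨a, ha⟩ := (Submodule.mem_span_range_iff_exists_fun _).1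
      ((hgs x hxU').ge (Submodule.mem_top (x := pullTo i M x rfl w)))
    choose b hb using fun j => surjective_stalkTo i x (rfl : i x = i x) (a j)
    refine Submodule.mem_sup.2 ⟨∑ j, b j • M.presheaf.germ V₁ (i x) hx (s j),
      Submodule.sum_mem _ fun j _ => Submodule.smul_mem _ _ (Submodule.subset_span ⟨j, rfl⟩),
      w - ∑ j, b j • M.presheaf.germ V₁ (i x) hx (s j), pullTo_eq_zero i M x rfl _ ?_, add_sub_cancel _ _⟩
    rw [map_sub, map_sum, ← ha, sub_eq_zero]
    exact (Finset.sum_congr rfl fun j _ => by rw [pullTo_smul, hb, hpull x hx hxU' hxW]).symm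
  -- lifts of the relations at the point
  have hrel : ∀ l, ∃ e : Fin n → X'.presheaf.stalk (i x₀),
      (∀ j, stalkTo i x₀ rfl (e j) = X.presheaf.germ U x₀ hxU (c l j)) ∧
        ∑ j, e j • M.presheaf.germ V₁ (i x₀) hy₁ (s j) = 0 := by
    intro l
    choose e he using fun j => surjective_stalkTo i x₀ (rfl : i x₀ = i x₀) (X.presheaf.germ U x₀ hxU (c l j))
    have h0 : pullTo i M x₀ rfl (∑ j, e j • M.presheaf.germ V₁ (i x₀) hy₁ (s j)) = 0 := by
      rw [map_sum, ← map_zero (ConcreteCategory.hom (G.presheaf.germ U x₀ hxU)), ← hc0 l, map_sum]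
      exact Finset.sum_congr rfl fun j _ => by
        rw [pullTo_smul, he, hpull x₀ hy₁ hxU hx₁, H06Mod.germ_smul]
    have h1 := pullTo_eq_zero i M x₀ rfl _ h0
    rw [← hgen x₀ hy₁ hxU hx₁, Submodule.mem_ideal_smul_span_iff_exists_sum] at h1
    obtain ⟨a, haJ, ha⟩ := h1
    rw [Finsupp.sum_fintype a _ (fun j => by rw [zero_smul])] at ha
    refine ⟨fun j => e j - a j, fun j => ?_, ?_⟩
    · rw [map_sub, he, RingHom.mem_ker.1 (haJ j), sub_zero]
    · simp only [sub_smul, Finset.sum_sub_distrib, ha, sub_self]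
  choose e he he0 using hrel
  choose Dl hDl d₁ hd₁ using fun p : Fin m × Fin n => X'.presheaf.exists_germ_eq (e p.1 p.2)
  obtain ⟨V₂, hy₂, hV₂⟩ := exists_le_finite Dl (i x₀) hDl
  let V₃ := V₁ ⊓ V₂
  let d₃ : Fin m → Fin n → Γ(X', V₃) := fun l j =>
    X'.presheaf.map (homOfLE (inf_le_right.trans (hV₂ (l, j)))).op (d₁ (l, j))
  let s₃ : Fin n → Γ(M, V₃) := fun j => M.presheaf.map (homOfLE inf_le_left).op (s j)
  have hy₃ : i x₀ ∈ V₃ := ⟨hy₁, hy₂⟩
  have hgermd : ∀ l j, X'.presheaf.germ V₃ (i x₀) hy₃ (d₃ l j) = e l j := fun l j => by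
    rw [TopCat.Presheaf.germ_res_apply]; exact hd₁ (l, j)
  have hvan : ∀ l, ∃ Z : X'.Opens, i x₀ ∈ Z ∧ ∃ hZ : Z ≤ V₃,
      M.presheaf.map (homOfLE hZ).op (∑ j, d₃ l j • s₃ j) = 0 := by
    intro l
    have h : M.presheaf.germ V₃ (i x₀) hy₃ (∑ j, d₃ l j • s₃ j) = M.presheaf.germ V₃ (i x₀) hy₃ 0 := by
      rw [map_zero, map_sum, ← he0 l]
      exact Finset.sum_congr rfl fun j _ => by
        rw [H06Mod.germ_smul, hgermd, TopCat.Presheaf.germ_res_apply]
    obtain ⟨Z, hZ, e₁, e₂, hZe⟩ := M.presheaf.germ_eq (i x₀) hy₃ hy₃ _ _ h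
    refine ⟨Z, hZ, e₁.le, ?_⟩
    rw [map_zero] at hZe
    exact hZe
  choose Zl hZl hZle hZ0 using hvan
  have hcd : ∀ p : Fin m × Fin n, ∃ W : X.Opens, x₀ ∈ W ∧ ∀ x (hx : i x ∈ V₃) (hxU' : x ∈ U), x ∈ W →
      stalkTo i x rfl (X'.presheaf.germ V₃ (i x) hx (d₃ p.1 p.2)) = X.presheaf.germ U x hxU' (c p.1 p.2) := by
    intro p
    have h := he p.1 p.2
    rw [← hgermd p.1 p.2, stalkTo_germ] at h
    obtain ⟨W, hW, e₁, e₂, hWe⟩ := X.presheaf.germ_eq x₀ (show x₀ ∈ i ⁻¹ᵁ V₃ from hy₃) hxU _ _ h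
    refine ⟨W, hW, fun x hx hxU' hxW => ?_⟩
    rw [stalkTo_germ]
    have := congrArg (X.presheaf.germ W x hxW) hWe
    rwa [TopCat.Presheaf.germ_res_apply, TopCat.Presheaf.germ_res_apply] at this
  choose Wd hWd hWde using hcd
  obtain ⟨W₂, hx₂, hW₂⟩ := exists_le_finite Wd x₀ hWd
  obtain ⟨Z₀, hz₀, hZ₀⟩ := exists_le_finite Zl (i x₀) hZl
  obtain ⟨O, hO, hOeq⟩ := (i.isClosedEmbedding.isInducing.isOpen_iff).1 (U ⊓ W₁ ⊓ W₂).isOpen
  let V : X'.Opens := V₃ ⊓ Z₀ ⊓ ⟨O, hO⟩
  have hV0 : i x₀ ∈ V := ⟨⟨hy₃, hz₀⟩, show x₀ ∈ i.base ⁻¹' O from hOeq.ge ⟨⟨hxU, hx₁⟩, hx₂⟩⟩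
  have hV₃ : V ≤ V₃ := inf_le_left.trans inf_le_left
  refine ⟨(V : Scheme.{u}), V.ι, inferInstance, by rwa [Scheme.Opens.opensRange_ι], ?_⟩
  have hmem : ∀ x, i x ∈ V → x ∈ U ∧ x ∈ W₁ ∧ x ∈ W₂ := fun x hx => by
    have : x ∈ ((U ⊓ W₁ ⊓ W₂ : X.Opens) : Set X) := hOeq.le hx.2
    exact ⟨this.1.1, this.1.2, this.2⟩
  refine isFP_restrict M (fun j => M.presheaf.map (homOfLE hV₃).op (s₃ j))
    (fun l j => X'.presheaf.map (homOfLE hV₃).op (d₃ l j)) (fun l => ?_) (fun y hy => ?_) (fun y hy a ha => ?_)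
  · simp only [← Scheme.Modules.map_smul]
    rw [← map_sum]
    have h2 : V ≤ Zl l := inf_le_left.trans (inf_le_right.trans (hZ₀ l))
    have := congrArg (M.presheaf.map (homOfLE h2).op) (hZ0 l)
    rw [map_zero, ← ConcreteCategory.comp_apply, ← Functor.map_comp] at this
    exact this
  · obtain ⟨x, rfl⟩ := Surjective.surj (f := i) y
    simp only [TopCat.Presheaf.germ_res_apply, s₃]
    exact hgen x (hV₃ hy).1 (hmem x hy).1 (hmem x hy).2.1
  · obtain ⟨x, rfl⟩ := Surjective.surj (f := i) y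
    obtain ⟨hxU', hxW, hxW'⟩ := hmem x hy
    simp only [TopCat.Presheaf.germ_res_apply, s₃] at ha
    have hgen' := hgen x (hV₃ hy).1 hxU' hxW
    let σ := fun j => M.presheaf.germ V₁ (i x) (hV₃ hy).1 (s j)
    obtain ⟨I, -, hJ⟩ := ker_stalkTo i q q' t hsq ht.2 x (rfl : i x = i x)
    let S := Submodule.span (X'.presheaf.stalk (i x))
      (Set.range fun l => fun j => X'.presheaf.germ V (i x) hy (X'.presheaf.map (homOfLE hV₃).op (d₃ l j)))
    show a ∈ S
    have hker : a ∈ LinearMap.ker (Fintype.linearCombination (X'.presheaf.stalk (i x)) σ) := by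
      rw [LinearMap.mem_ker, Fintype.linearCombination_apply]; exact ha
    have hSker : ∀ l, ∑ j, (X'.presheaf.germ V (i x) hy (X'.presheaf.map (homOfLE hV₃).op (d₃ l j))) • σ j = 0 := by
      intro l
      have h2 : V ≤ Zl l := inf_le_left.trans (inf_le_right.trans (hZ₀ l))
      have := congrArg (M.presheaf.germ (Zl l) (i x) (h2 hy)) (hZ0 l)
      rw [map_zero, TopCat.Presheaf.germ_res_apply, map_sum] at this
      rw [← this]
      refine Finset.sum_congr rfl fun j _ => ?_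
      rw [H06Mod.germ_smul, TopCat.Presheaf.germ_res_apply, TopCat.Presheaf.germ_res_apply]
      exact congrArg (_ • ·) (TopCat.Presheaf.germ_res_apply M.presheaf (homOfLE inf_le_left) (i x) (hV₃ hy) (s j)).symm
    refine le_of_le_sup_smul _ hJ _ S (fun b hb => ?_) hker
    rw [LinearMap.mem_ker, Fintype.linearCombination_apply] at hb
    have h1 : ∑ j, stalkTo i x rfl (b j) • G.presheaf.germ U x hxU' (g j) = 0 := by
      have := congrArg (pullTo i M x (rfl : i x = i x)) hb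
      rw [map_zero, map_sum] at this
      rw [← this]
      exact Finset.sum_congr rfl fun j _ => by rw [pullTo_smul, hpull x (hV₃ hy).1 hxU' hxW]
    obtain ⟨k, hk⟩ := (Submodule.mem_span_range_iff_exists_fun _).1 (hgr x hxU' _ h1)
    choose k' hk' using fun l => surjective_stalkTo i x (rfl : i x = i x) (k l)
    let w : Fin n → X'.presheaf.stalk (i x) := ∑ l, k' l • fun j =>
      X'.presheaf.germ V (i x) hy (X'.presheaf.map (homOfLE hV₃).op (d₃ l j))
    have hw : w ∈ S := Submodule.sum_mem _ fun l _ => Submodule.smul_mem _ _ (Submodule.subset_span ⟨l, rfl⟩)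
    refine Submodule.mem_sup.2 ⟨w, hw, b - w, ?_, add_sub_cancel _ _⟩
    refine hflat' x rfl σ hgen' _ (fun j => ?_) ?_
    · rw [RingHom.mem_ker, Pi.sub_apply, map_sub, sub_eq_zero, ← congrFun hk j]
      simp only [w, Finset.sum_apply, Pi.smul_apply, smul_eq_mul, map_sum, map_mul, hk']
      refine Finset.sum_congr rfl fun l _ => congrArg _ ?_
      rw [TopCat.Presheaf.germ_res_apply]
      exact (hWde (l, j) x (hV₃ hy) hxU' (hW₂ (l, j) hxW')).symm
    · simp only [Pi.sub_apply, sub_smul, Finset.sum_sub_distrib]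
      have h2 : ∑ j, w j • σ j = 0 := by
        simp only [w, Finset.sum_apply, Pi.smul_apply, smul_eq_mul, Finset.sum_smul, mul_smul]
        rw [Finset.sum_comm]
        exact Finset.sum_eq_zero fun l _ => by rw [← Finset.smul_sum, hSker, smul_zero]
      rw [h2, sub_zero]
      exact hb

end Groth.Agent.H17.ThickFP
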